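import Mathlib

/-!
# The simple factors of a nonabelian minimal normal subgroup
-/

set_option autoImplicit false

namespace Cfsg.Agent.MinFactors

variable {G : Type*} [Group G]

/-- Nontrivial, inside `N`, normalised by `N`. -/
def Stable (N U : Subgroup G) : Prop :=
  U ≠ ⊥ ∧ U ≤ N ∧ ∀ x ∈ N, ∀ u ∈ U, x * u * x⁻¹ ∈ U

/-- The image of a subgroup under conjugation. -/
def conjS (g : G) (U : Subgroup G) : Subgroup G := U.map (MulAut.conj g).toMonoidHom

theorem mem_conjS {g x : G} {U : Subgroup G} : x ∈ conjS g U ↔ g⁻¹ * x * g ∈ U := by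
  rw [conjS, Subgroup.mem_map_equiv, MulAut.conj_symm_apply]

theorem conjS_one (U : Subgroup G) : conjS 1 U = U := by
  ext x; simp [mem_conjS]

theorem conjS_conjS (g h : G) (U : Subgroup G) : conjS g (conjS h U) = conjS (g * h) U := by
  ext x; simp [mem_conjS, mul_assoc]

theorem Stable.conj {N U : Subgroup G} [hN : N.Normal] (h : Stable N U) (g : G) :
    Stable N (conjS g U) := by
  refine ⟨fun e => h.1 ?_, fun x hx => ?_, fun x hx u hu => ?_⟩
  · rw [← conjS_one U, ← inv_mul_cancel g, ← conjS_conjS, e]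
    exact Subgroup.map_bot _
  · have := h.2.1 (mem_conjS.1 hx)
    simpa [mul_assoc] using hN.conj_mem _ this g
  · rw [mem_conjS] at hu ⊢
    have hx' : g⁻¹ * x * g ∈ N := by simpa using hN.conj_mem x hx g⁻¹
    simpa [mul_assoc] using h.2.2 _ hx' _ hu

/-- A nonabelian minimal normal subgroup with one of its minimal `N`-invariant subgroups. -/
structure NAMin (G : Type*) [Group G] where
  N : Subgroup G
  normal : N.Normal
  ne_bot : N ≠ ⊥
  minimal : ∀ M : Subgroup G, M.Normal → M ≤ N → M = ⊥ ∨ M = N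
  nonab : ¬ IsMulCommutative N
  T : Subgroup G
  stable : Stable N T
  t_min : ∀ M, Stable N M → M ≤ T → M = T

/-- Existence. -/
theorem exists_naMin [Finite G] (N : Subgroup G) (hN : N.Normal) (hne : N ≠ ⊥)
    (hmin : ∀ M : Subgroup G, M.Normal → M ≤ N → M = ⊥ ∨ M = N) (hna : ¬ IsMulCommutative N) :
    ∃ S : NAMin G, S.N = N := by
  obtain ⟨T, -, hT⟩ := Finite.exists_le_minimal (p := fun U => Stable N U) (a := N)
    ⟨hne, le_rfl, fun x hx u hu => N.mul_mem (N.mul_mem hx hu) (N.inv_mem hx)⟩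
  exact ⟨⟨N, hN, hne, hmin, hna, T, hT.1, fun M hM hle => le_antisymm hle (hT.2 hM hle)⟩, rfl⟩

namespace NAMin

variable (S : NAMin G)

/-- The conjugates of `T`. -/
abbrev Fac := {U : Subgroup G // ∃ g, conjS g S.T = U}

theorem fac_stable (U : S.Fac) : Stable S.N U.1 := by
  obtain ⟨g, hg⟩ := U.2
  have := S.normal
  exact hg ▸ S.stable.conj g

theorem fac_min (U : S.Fac) {M : Subgroup G} (hM : Stable S.N M) (hle : M ≤ U.1) : M = U.1 := by
  obtain ⟨g, hg⟩ := U.2
  have := S.normal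
  have hM' := hM.conj g⁻¹
  have h := S.t_min _ hM' (fun x hx => by
    rw [mem_conjS] at hx
    have := hle hx
    rw [← hg, mem_conjS] at this
    simpa [mul_assoc] using this)
  rw [← hg, ← h, conjS_conjS, mul_inv_cancel, conjS_one]

theorem fac_inf {U V : S.Fac} (h : U ≠ V) : U.1 ⊓ V.1 = ⊥ := by
  by_contra hne
  have hs : Stable S.N (U.1 ⊓ V.1) := ⟨hne, inf_le_left.trans (S.fac_stable U).2.1,
    fun x hx u hu => ⟨(S.fac_stable U).2.2 x hx u hu.1, (S.fac_stable V).2.2 x hx u hu.2⟩⟩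
  exact h (Subtype.ext ((S.fac_min U hs inf_le_left).symm.trans (S.fac_min V hs inf_le_right)))

theorem fac_comm {U V : S.Fac} (h : U ≠ V) {u v : G} (hu : u ∈ U.1) (hv : v ∈ V.1) :
    u * v = v * u := by
  have hUN := (S.fac_stable U).2.1
  have hVN := (S.fac_stable V).2.1
  have hmem : u * v * u⁻¹ * v⁻¹ ∈ U.1 ⊓ V.1 :=
    ⟨by simpa [mul_assoc] using
        U.1.mul_mem hu ((S.fac_stable U).2.2 v (hVN hv) u⁻¹ (U.1.inv_mem hu)),
      V.1.mul_mem ((S.fac_stable V).2.2 u (hUN hu) v hv) (V.1.inv_mem hv)⟩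
  rw [S.fac_inf h, Subgroup.mem_bot, mul_inv_eq_one] at hmem
  exact mul_inv_eq_iff_eq_mul.1 hmem

theorem iSup_fac : (⨆ U : S.Fac, U.1) = S.N := by
  have hle : (⨆ U : S.Fac, U.1) ≤ S.N := iSup_le fun U => (S.fac_stable U).2.1
  have hn : (⨆ U : S.Fac, U.1).Normal := ⟨fun n hn g => by
    have : (⨆ U : S.Fac, U.1) ≤ (⨆ U : S.Fac, U.1).comap (MulAut.conj g).toMonoidHom := by
      refine iSup_le fun U x hx => ?_
      obtain ⟨h, hh⟩ := U.2
      have hW : g * x * g⁻¹ ∈ conjS g U.1 := by rw [mem_conjS]; simpa [mul_assoc] using hx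
      exact Subgroup.mem_iSup_of_mem
        (⟨conjS g U.1, g * h, by rw [← conjS_conjS, hh]⟩ : S.Fac) hW
    exact this hn⟩
  refine (S.minimal _ hn hle).resolve_left fun e => S.stable.1 ?_
  have hT : S.T ≤ ⨆ U : S.Fac, U.1 :=
    le_iSup_of_le (⟨S.T, 1, conjS_one _⟩ : S.Fac) le_rfl
  rw [e] at hT
  exact le_bot_iff.1 hT

/-- The product of the other factors. -/
def others (U : S.Fac) : Subgroup G := ⨆ V : S.Fac, ⨆ (_ : V ≠ U), V.1

theorem le_others {U V : S.Fac} (h : V ≠ U) : V.1 ≤ S.others U := le_iSup₂_of_le V h le_rfl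

theorem others_le (U : S.Fac) : S.others U ≤ S.N :=
  iSup₂_le fun V _ => (S.fac_stable V).2.1

theorem others_comm (U : S.Fac) {u c : G} (hu : u ∈ U.1) (hc : c ∈ S.others U) :
    u * c = c * u := by
  have h : S.others U ≤ Subgroup.centralizer (U.1 : Set G) :=
    iSup₂_le fun V hV v hv => Subgroup.mem_centralizer_iff.2 fun w hw => S.fac_comm hV.symm hw hv
  exact Subgroup.mem_centralizer_iff.1 (h hc) u hu

theorem decomp (U : S.Fac) {x : G} (hx : x ∈ S.N) : ∃ u ∈ U.1, ∃ c ∈ S.others U, x = u * c := by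
  let D : Subgroup G :=
    { carrier := {x | ∃ u ∈ U.1, ∃ c ∈ S.others U, x = u * c}
      one_mem' := ⟨1, one_mem _, 1, one_mem _, (mul_one 1).symm⟩
      mul_mem' := by
        rintro _ _ ⟨u, hu, c, hc, rfl⟩ ⟨v, hv, d, hd, rfl⟩
        refine ⟨u * v, U.1.mul_mem hu hv, c * d, (S.others U).mul_mem hc hd, ?_⟩
        have := S.others_comm U hv hc
        simp only [mul_assoc]
        congr 1
        rw [← mul_assoc, ← mul_assoc, this]
      inv_mem' := by
        rintro _ ⟨u, hu, c, hc, rfl⟩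
        refine ⟨u⁻¹, U.1.inv_mem hu, c⁻¹, (S.others U).inv_mem hc, ?_⟩
        rw [mul_inv_rev, S.others_comm U (U.1.inv_mem hu) ((S.others U).inv_mem hc)] }
  have : (⨆ V : S.Fac, V.1) ≤ D := iSup_le fun V v hv => by
    by_cases h : V = U
    · exact ⟨v, h ▸ hv, 1, one_mem _, (mul_one v).symm⟩
    · exact ⟨1, one_mem _, v, S.le_others h hv, (one_mul v).symm⟩
  rw [S.iSup_fac] at this
  exact this hx

theorem fac_nonabelian (U : S.Fac) : ∃ u ∈ U.1, ∃ v ∈ U.1, u * v ≠ v * u := by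
  by_contra h
  push Not at h
  obtain ⟨g₀, hg₀⟩ := U.2
  have hall : ∀ V : S.Fac, ∀ u ∈ V.1, ∀ v ∈ V.1, u * v = v * u := by
    intro V u hu v hv
    obtain ⟨g, hg⟩ := V.2
    have hU : ∀ w ∈ V.1, g₀ * g⁻¹ * w * g * g₀⁻¹ ∈ U.1 := fun w hw => by
      rw [← hg, mem_conjS] at hw
      rw [← hg₀, mem_conjS]
      simpa [mul_assoc] using hw
    have e := h _ (hU u hu) _ (hU v hv)
    calc u * v = g * g₀⁻¹ * ((g₀ * g⁻¹ * u * g * g₀⁻¹) * (g₀ * g⁻¹ * v * g * g₀⁻¹)) * g₀ * g⁻¹ := by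
          group
      _ = g * g₀⁻¹ * ((g₀ * g⁻¹ * v * g * g₀⁻¹) * (g₀ * g⁻¹ * u * g * g₀⁻¹)) * g₀ * g⁻¹ := by rw [e]
      _ = v * u := by group
  apply S.nonab
  refine ⟨⟨fun x y => Subtype.ext ?_⟩⟩
  have h1 : (⨆ V : S.Fac, V.1) ≤ Subgroup.centralizer (S.N : Set G) := iSup_le fun V v hv => by
    refine Subgroup.mem_centralizer_iff.2 fun w hw => ?_
    have h2 : (⨆ W : S.Fac, W.1) ≤ Subgroup.centralizer ({v} : Set G) := iSup_le fun W z hz => by
      refine Subgroup.mem_centralizer_singleton_iff.2 ?_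
      by_cases e : W = V
      · subst e; exact hall W z hz v hv
      · exact S.fac_comm e hz hv
    rw [S.iSup_fac] at h2
    exact Subgroup.mem_centralizer_singleton_iff.1 (h2 hw)
  rw [S.iSup_fac] at h1
  exact Subgroup.mem_centralizer_iff.1 (h1 y.2) x x.2

theorem fac_center (U : S.Fac) {z : G} (hz : z ∈ U.1) (h : ∀ u ∈ U.1, z * u = u * z) : z = 1 := by
  by_contra hz1
  let M := U.1 ⊓ Subgroup.centralizer (U.1 : Set G)
  have hzM : z ∈ M := ⟨hz, Subgroup.mem_centralizer_iff.2 fun u hu => (h u hu).symm⟩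
  have hs : Stable S.N M := by
    refine ⟨fun e => hz1 (by rw [e] at hzM; exact Subgroup.mem_bot.1 hzM),
      inf_le_left.trans (S.fac_stable U).2.1, fun x hx w hw =>
        ⟨(S.fac_stable U).2.2 x hx w hw.1, Subgroup.mem_centralizer_iff.2 fun u hu => ?_⟩⟩
    have hu' : x⁻¹ * u * x ∈ U.1 := by
      simpa using (S.fac_stable U).2.2 x⁻¹ (S.N.inv_mem hx) u hu
    have e := Subgroup.mem_centralizer_iff.1 hw.2 _ hu'
    calc u * (x * w * x⁻¹) = x * ((x⁻¹ * u * x) * w) * x⁻¹ := by group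
      _ = x * (w * (x⁻¹ * u * x)) * x⁻¹ := by rw [e]
      _ = x * w * x⁻¹ * u := by group
  have hM := S.fac_min U hs inf_le_left
  obtain ⟨u, hu, v, hv, hne⟩ := S.fac_nonabelian U
  have hvM : v ∈ M := by rw [hM]; exact hv
  exact hne (Subgroup.mem_centralizer_iff.1 hvM.2 u hu)

theorem fac_simple (U : S.Fac) : IsSimpleGroup U.1 := by
  have : Nontrivial U.1 := (Subgroup.nontrivial_iff_ne_bot _).2 (S.fac_stable U).1
  refine ⟨fun M hM => ?_⟩
  by_cases hb : M = ⊥
  · exact Or.inl hb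
  refine Or.inr ?_
  have hle : M.map U.1.subtype ≤ U.1 := Subgroup.map_subtype_le M
  have hs : Stable S.N (M.map U.1.subtype) := by
    refine ⟨fun e => hb ((Subgroup.map_eq_bot_iff_of_injective _ U.1.subtype_injective).1 e),
      hle.trans (S.fac_stable U).2.1, ?_⟩
    rintro x hx _ ⟨m, hm, rfl⟩
    obtain ⟨u, hu, c, hc, rfl⟩ := S.decomp U hx
    refine ⟨⟨u, hu⟩ * m * ⟨u, hu⟩⁻¹, hM.conj_mem m hm _, ?_⟩
    have e : (m : G) * c = c * m := S.others_comm U m.2 hc
    show u * (m : G) * u⁻¹ = u * c * m * (u * c)⁻¹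
    calc u * (m : G) * u⁻¹ = u * ((m : G) * c) * c⁻¹ * u⁻¹ := by group
      _ = u * (c * m) * c⁻¹ * u⁻¹ := by rw [e]
      _ = _ := by group
  exact (Subgroup.map_injective U.1.subtype_injective)
    ((S.fac_min U hs hle).trans (by rw [← MonoidHom.range_eq_map, Subgroup.range_subtype]))

theorem comp_unique (U : S.Fac) {u u' c c' : G} (hu : u ∈ U.1) (hu' : u' ∈ U.1)
    (hc : c ∈ S.others U) (hc' : c' ∈ S.others U) (h : u * c = u' * c') : u = u' := by
  have h1 : u'⁻¹ * u = c' * c⁻¹ := by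
    calc u'⁻¹ * u = u'⁻¹ * (u * c) * c⁻¹ := by group
      _ = u'⁻¹ * (u' * c') * c⁻¹ := by rw [h]
      _ = c' * c⁻¹ := by group
  have h2 : u'⁻¹ * u = 1 := S.fac_center U (U.1.mul_mem (U.1.inv_mem hu') hu) fun w hw => by
    rw [h1]
    exact (S.others_comm U hw ((S.others U).mul_mem hc' ((S.others U).inv_mem hc))).symm
  exact (inv_mul_eq_one.1 h2).symm

/-- The projection on a factor. -/
noncomputable def proj (U : S.Fac) : S.N →* U.1 :=
  MonoidHom.mk'
    (fun x => ⟨(S.decomp U x.2).choose, (S.decomp U x.2).choose_spec.1⟩)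
    (by
      intro x y
      apply Subtype.ext
      obtain ⟨hx, cx, hcx, ex⟩ := (S.decomp U x.2).choose_spec
      obtain ⟨hy, cy, hcy, ey⟩ := (S.decomp U y.2).choose_spec
      obtain ⟨hxy, cxy, hcxy, exy⟩ := (S.decomp U (x * y).2).choose_spec
      refine S.comp_unique U hxy (U.1.mul_mem hx hy) hcxy ((S.others U).mul_mem hcx hcy) ?_
      rw [← exy, Subgroup.coe_mul]
      conv_lhs => rw [ex, ey]
      simp only [Subgroup.coe_mul, mul_assoc]
      congr 1
      rw [← mul_assoc cx, ← S.others_comm U hy hcx, mul_assoc])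

theorem proj_eq (U : S.Fac) (x : S.N) {u c : G} (hu : u ∈ U.1) (hc : c ∈ S.others U)
    (h : (x : G) = u * c) : S.proj U x = ⟨u, hu⟩ := by
  obtain ⟨hx, cx, hcx, ex⟩ := (S.decomp U x.2).choose_spec
  exact Subtype.ext (S.comp_unique U hx hu hcx hc (ex.symm.trans h))

theorem proj_self (U : S.Fac) (x : S.N) (hx : (x : G) ∈ U.1) : S.proj U x = ⟨x, hx⟩ :=
  S.proj_eq U x hx (one_mem _) (mul_one _).symm

theorem proj_other {U V : S.Fac} (h : V ≠ U) (x : S.N) (hx : (x : G) ∈ V.1) : S.proj U x = 1 :=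
  S.proj_eq U x (one_mem _) (S.le_others h hx) (one_mul _).symm

theorem proj_injective {x : S.N} (h : ∀ U, S.proj U x = 1) : x = 1 := by
  have hc : ∀ U : S.Fac, (x : G) ∈ S.others U := fun U => by
    obtain ⟨u, hu, c, hc, e⟩ := S.decomp U x.2
    have := (S.proj_eq U x hu hc e).symm.trans (h U)
    have hu1 : u = 1 := congrArg Subtype.val this
    rw [e, hu1, one_mul]; exact hc
  have hcen : ∀ y ∈ S.N, (x : G) * y = y * x := by
    intro y hy
    have h1 : (⨆ U : S.Fac, U.1) ≤ Subgroup.centralizer ({(x : G)} : Set G) :=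
      iSup_le fun U u hu => Subgroup.mem_centralizer_singleton_iff.2 (S.others_comm U hu (hc U))
    rw [S.iSup_fac] at h1
    exact (Subgroup.mem_centralizer_singleton_iff.1 (h1 hy)).symm
  have hZn : (S.N ⊓ Subgroup.centralizer (S.N : Set G)).Normal := by
    have := S.normal
    infer_instance
  rcases S.minimal _ hZn inf_le_left with hb | ht
  · have hx' : (x : G) ∈ S.N ⊓ Subgroup.centralizer (S.N : Set G) :=
      ⟨x.2, Subgroup.mem_centralizer_iff.2 fun y hy => (hcen y hy).symm⟩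
    rw [hb, Subgroup.mem_bot] at hx'
    exact Subtype.ext hx'
  · exfalso
    apply S.nonab
    refine ⟨⟨fun a b => Subtype.ext ?_⟩⟩
    have hb : (b : G) ∈ S.N ⊓ Subgroup.centralizer (S.N : Set G) := by rw [ht]; exact b.2
    exact Subgroup.mem_centralizer_iff.1 hb.2 a a.2

theorem proj_surjective [Finite G] (z : ∀ U : S.Fac, U.1) : ∃ x : S.N, ∀ U, S.proj U x = z U := by
  classical
  have := Fintype.ofFinite S.Fac
  suffices h : ∀ s : Finset S.Fac, ∃ x : S.N,
      ∀ U, S.proj U x = if U ∈ s then z U else 1 by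
    obtain ⟨x, hx⟩ := h Finset.univ
    exact ⟨x, fun U => by rw [hx U, if_pos (Finset.mem_univ U)]⟩
  intro s
  induction s using Finset.induction_on with
  | empty => exact ⟨1, fun U => by simp⟩
  | insert V s hVs ih =>
    obtain ⟨x, hx⟩ := ih
    refine ⟨x * ⟨z V, (S.fac_stable V).2.1 (z V).2⟩, fun U => ?_⟩
    rw [map_mul, hx U]
    by_cases hUV : U = V
    · subst hUV
      rw [if_neg hVs, one_mul, S.proj_self U _ (z U).2, if_pos (Finset.mem_insert_self U s)]
    · rw [S.proj_other (Ne.symm hUV) _ (z V).2, mul_one]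
      simp [hUV]

end NAMin

end Cfsg.Agent.MinFactors
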