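import Cfsg.Agent.Lib.MinNormal.Subdirect
import Mathlib.GroupTheory.GroupAction.Primitive

/-!
# The point stabiliser in a nonabelian socle of a primitive group
-/

set_option autoImplicit false

namespace Cfsg.Agent.MinFactors

namespace NAMin

universe u

variable {G : Type u} [Group G] (S : NAMin G)

/-- Conjugation moves the factors. -/
def moveFac (g : G) (U : S.Fac) : S.Fac :=
  ⟨conjS g U.1, U.2.elim fun h hh => ⟨g * h, by rw [← conjS_conjS, hh]⟩⟩

theorem moveFac_inv (g : G) (U : S.Fac) : S.moveFac g⁻¹ (S.moveFac g U) = U :=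
  Subtype.ext (by show conjS g⁻¹ (conjS g U.1) = U.1; rw [conjS_conjS, inv_mul_cancel, conjS_one])

theorem moveFac_inv' (g : G) (U : S.Fac) : S.moveFac g (S.moveFac g⁻¹ U) = U :=
  Subtype.ext (by show conjS g (conjS g⁻¹ U.1) = U.1; rw [conjS_conjS, mul_inv_cancel, conjS_one])

/-- The conjugate of an element of the socle. -/
def moveElt (g : G) (x : S.N) : S.N := ⟨g * x * g⁻¹, S.normal.conj_mem x x.2 g⟩

theorem proj_move (g : G) (U : S.Fac) (x : S.N) :
    ((S.proj (S.moveFac g U) (S.moveElt g x)) : G) = g * (S.proj U x : G) * g⁻¹ := by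
  obtain ⟨u, hu, c, hc, e⟩ := S.decomp U x.2
  rw [S.proj_eq U x hu hc e]
  have hu' : g * u * g⁻¹ ∈ (S.moveFac g U).1 := by
    show g * u * g⁻¹ ∈ conjS g U.1
    rw [mem_conjS]; simpa [mul_assoc] using hu
  have hc' : g * c * g⁻¹ ∈ S.others (S.moveFac g U) := by
    have hle : S.others U ≤ (S.others (S.moveFac g U)).comap (MulAut.conj g).toMonoidHom := by
      refine iSup₂_le fun V hV v hv => ?_
      have hne : S.moveFac g V ≠ S.moveFac g U := fun h => hV (by
        have := congrArg (S.moveFac g⁻¹) h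
        rwa [moveFac_inv, moveFac_inv] at this)
      refine S.le_others hne ?_
      show g * v * g⁻¹ ∈ conjS g V.1
      rw [mem_conjS]; simpa [mul_assoc] using hv
    exact hle hc
  rw [S.proj_eq (S.moveFac g U) (S.moveElt g x) hu' hc' (by
    show g * (x : G) * g⁻¹ = _
    rw [e]; group)]

/-- An identification of a factor with the fixed small copy of the simple group. -/
noncomputable def facIso [Finite G] (U : S.Fac) : U.1 ≃* Shrink.{0} S.T :=
  (MulEquiv.subgroupCongr U.2.choose_spec.symm).trans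
    ((Subgroup.equivMapOfInjective S.T _ (MulAut.conj U.2.choose).injective).symm.trans
      Shrink.mulEquiv.{0}.symm)

/-- The product decomposition twisted by isomorphisms. -/
noncomputable def decompEquiv [Finite G] {T : Type} [Group T] {m : ℕ} (idx : S.Fac ≃ Fin m)
    (θ : ∀ U : S.Fac, U.1 ≃* T) : S.N ≃* (Fin m → T) :=
  MulEquiv.ofBijective
    (MonoidHom.mk' (fun x i => θ (idx.symm i) (S.proj (idx.symm i) x))
      (fun x y => by funext i; simp))
    ⟨(injective_iff_map_eq_one _).2 fun x hx => S.proj_injective fun U => by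
        have h : θ (idx.symm (idx U)) (S.proj (idx.symm (idx U)) x) = 1 := congrFun hx (idx U)
        rw [idx.symm_apply_apply] at h
        exact (MulEquiv.map_eq_one_iff (θ U)).1 h,
      fun z => by
        obtain ⟨x, hx⟩ := S.proj_surjective fun U => (θ U).symm (z (idx U))
        refine ⟨x, funext fun i => ?_⟩
        show θ (idx.symm i) (S.proj (idx.symm i) x) = z i
        rw [hx, MulEquiv.apply_symm_apply, idx.apply_symm_apply]⟩

variable [Finite G]

/-- The O'Nan–Scott alternative for a maximal subgroup supplementing the socle. -/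
theorem product_or_diagonal (A : Subgroup G) (hA : IsCoatom A) (hsup : A ⊔ S.N = ⊤)
    (hNA : ¬ S.N ≤ A) :
    ∃ (T : Type) (_ : Group T) (m : ℕ) (e : S.N ≃* (Fin m → T)), IsSimpleGroup T ∧
      ¬ IsMulCommutative T ∧ 0 < m ∧
      ((∃ K : Fin m → Subgroup T, (∀ i, K i ≠ ⊤) ∧ ∀ n : S.N, (n : G) ∈ A ↔ ∀ i, e n i ∈ K i) ∨
        (∃ (k : ℕ) (c : Fin m → Fin m), 2 ≤ k ∧
          (∀ j : Fin m, Nat.card {i : Fin m // c i = j} = k ∨ Nat.card {i : Fin m // c i = j} = 0) ∧
          ∀ n : S.N, (n : G) ∈ A ↔ ∀ i j : Fin m, c i = c j → e n i = e n j)) := by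
  classical
  have hN := S.normal
  have : Fintype S.Fac := Fintype.ofFinite _
  let idx : S.Fac ≃ Fin (Nat.card S.Fac) := Finite.equivFin _
  let U₀ : S.Fac := ⟨S.T, 1, conjS_one _⟩
  have hm : 0 < Nat.card S.Fac := @Nat.card_pos _ ⟨U₀⟩ _
  have hsimp : IsSimpleGroup (Shrink.{0} S.T) :=
    have : IsSimpleGroup S.T := S.fac_simple U₀
    MulEquiv.isSimpleGroup Shrink.mulEquiv.{0}
  have hna : ¬ IsMulCommutative (Shrink.{0} S.T) := fun h => by
    obtain ⟨u, hu, v, hv, hne⟩ := S.fac_nonabelian U₀
    apply hne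
    have : (⟨u, hu⟩ : S.T) * ⟨v, hv⟩ = ⟨v, hv⟩ * ⟨u, hu⟩ :=
      (Shrink.mulEquiv.{0} (α := S.T)).symm.injective
        (by rw [map_mul, map_mul]; exact h.is_comm.comm _ _)
    exact congrArg Subtype.val this
  -- `A` moves factors transitively
  have htr : ∀ U V : S.Fac, ∃ g ∈ A, S.moveFac g U = V := by
    intro U V
    obtain ⟨p, hp⟩ := U.2
    obtain ⟨q, hq⟩ := V.2
    have hmem : q * p⁻¹ ∈ A ⊔ S.N := hsup ▸ Subgroup.mem_top _
    obtain ⟨g, hg, z, hz, e⟩ := Subgroup.mem_sup_of_normal_right.1 hmem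
    refine ⟨g, hg, Subtype.ext ?_⟩
    show conjS g U.1 = V.1
    have hzU : conjS z U.1 = U.1 := le_antisymm
      (fun w hw => by
        rw [mem_conjS] at hw
        simpa [mul_assoc] using (S.fac_stable U).2.2 z hz _ hw)
      (fun w hw => by
        rw [mem_conjS]
        simpa using (S.fac_stable U).2.2 z⁻¹ (S.N.inv_mem hz) w hw)
    rw [← hzU, conjS_conjS, e, ← hp, conjS_conjS, inv_mul_cancel_right, hq]
  let D : Subgroup S.N := A.subgroupOf S.N
  have hDmove : ∀ g ∈ A, ∀ x : D, S.moveElt g x ∈ D := fun g hg x =>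
    A.mul_mem (A.mul_mem hg x.2) (A.inv_mem hg)
  by_cases hfull : ∀ U, Function.Surjective (S.dproj D U)
  swap
  · -- proper projections
    push Not at hfull
    obtain ⟨U₁, hU₁⟩ := hfull
    have hproper : ∀ U, ¬ Function.Surjective (S.dproj D U) := by
      intro U hU
      apply hU₁
      obtain ⟨g, hg, rfl⟩ := htr U U₁
      intro w
      have hw : g⁻¹ * (w : G) * g ∈ U.1 := mem_conjS.1 w.2
      obtain ⟨x, hx⟩ := hU ⟨_, hw⟩
      refine ⟨⟨S.moveElt g x, hDmove g hg x⟩, Subtype.ext ?_⟩
      show ((S.proj (S.moveFac g U) (S.moveElt g x)) : G) = w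
      rw [proj_move, show ((S.proj U (x : S.N)) : G) = g⁻¹ * (w : G) * g from
        congrArg Subtype.val hx]
      group
    refine ⟨_, inferInstance, _, S.decompEquiv idx S.facIso, hsimp, hna, hm, Or.inl
      ⟨fun i => ((S.dproj D (idx.symm i)).range).map (S.facIso (idx.symm i)).toMonoidHom,
        fun i h => hproper (idx.symm i) (MonoidHom.range_eq_top.1
          ((Subgroup.map_injective (S.facIso (idx.symm i)).injective)
            (h.trans (Subgroup.map_top_of_surjective (S.facIso (idx.symm i)).toMonoidHom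
              (S.facIso (idx.symm i)).surjective).symm))),
        fun n => ⟨fun hn i => ⟨_, ⟨⟨n, hn⟩, rfl⟩, rfl⟩, fun hn => ?_⟩⟩⟩
    -- the product of the projections is normalised by `A`
    let P : Subgroup S.N := ⨅ U : S.Fac, ((S.dproj D U).range).comap (S.proj U)
    have hPmem : ∀ x : S.N, x ∈ P ↔ ∀ U, S.proj U x ∈ (S.dproj D U).range := by
      simp [P, Subgroup.mem_iInf]
    have hPmove : ∀ g ∈ A, ∀ x ∈ P, S.moveElt g x ∈ P := by
      intro g hg x hx
      rw [hPmem] at hx ⊢
      intro V
      obtain ⟨U, rfl⟩ : ∃ U, S.moveFac g U = V := ⟨S.moveFac g⁻¹ V, S.moveFac_inv' g V⟩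
      obtain ⟨d, hd⟩ := hx U
      refine ⟨⟨S.moveElt g d, hDmove g hg d⟩, Subtype.ext ?_⟩
      show ((S.proj (S.moveFac g U) (S.moveElt g d)) : G) = _
      rw [proj_move, proj_move, show ((S.proj U (d : S.N)) : G) = S.proj U x from
        congrArg Subtype.val hd]
    have hnP : n ∈ P := by
      rw [hPmem]
      intro U
      obtain ⟨w, hw, he⟩ := hn (idx U)
      have he' : S.facIso (idx.symm (idx U)) w =
          S.facIso (idx.symm (idx U)) (S.proj (idx.symm (idx U)) n) := he
      have := (S.facIso (idx.symm (idx U))).injective he'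
      rw [this] at hw
      have key : ∀ V, V = U → S.proj V n ∈ (S.dproj D V).range →
          S.proj U n ∈ (S.dproj D U).range := by
        rintro V rfl h; exact h
      exact key _ (idx.symm_apply_apply U) hw
    by_contra hnA
    have hle : A ≤ Subgroup.normalizer ((P.map S.N.subtype : Subgroup G) : Set G) := by
      have key : ∀ g ∈ A, ∀ y ∈ P.map S.N.subtype, g * y * g⁻¹ ∈ P.map S.N.subtype := by
        rintro g hg _ ⟨x, hx, rfl⟩
        exact ⟨S.moveElt g x, hPmove g hg x hx, rfl⟩
      intro g hg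
      refine Subgroup.mem_normalizer_iff.2 fun y => ⟨key g hg y, fun hy => ?_⟩
      simpa [mul_assoc] using key g⁻¹ (A.inv_mem hg) _ hy
    have htop : A ⊔ P.map S.N.subtype = ⊤ := hA.2 _ (lt_of_le_of_ne le_sup_left fun h =>
      hnA (by rw [h]; exact Subgroup.mem_sup_right ⟨n, hnP, rfl⟩))
    apply hproper U₀
    intro w
    let w' : S.N := ⟨w, (S.fac_stable U₀).2.1 w.2⟩
    have hmem : (w' : G) ∈ ((A ⊔ P.map S.N.subtype : Subgroup G) : Set G) := by
      rw [htop]; trivial
    rw [Subgroup.coe_mul_of_left_le_normalizer_right A (P.map S.N.subtype) hle] at hmem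
    obtain ⟨g, hg, _, ⟨p, hp, rfl⟩, e⟩ := Set.mem_mul.1 hmem
    have hgN : g ∈ S.N := by
      have : g = (w' : G) * (p : G)⁻¹ := eq_mul_inv_iff_mul_eq.2 e
      rw [this]; exact S.N.mul_mem w'.2 (S.N.inv_mem p.2)
    have hsplit : w' = ⟨g, hgN⟩ * p := Subtype.ext e.symm
    have hwR : S.proj U₀ w' ∈ (S.dproj D U₀).range := by
      rw [hsplit, map_mul]
      exact Subgroup.mul_mem _ ⟨⟨⟨g, hgN⟩, hg⟩, rfl⟩ ((hPmem p).1 hp U₀)
    rwa [S.proj_self U₀ w' w.2] at hwR
  -- full projections
  let st : Setoid S.Fac := ⟨S.Linked D, S.linked_equiv D⟩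
  let r : S.Fac → S.Fac := fun U => (Quotient.mk st U).out
  have hr : ∀ U, S.Linked D (r U) U := fun U => Quotient.exact (Quotient.out_eq (Quotient.mk st U))
  have hr' : ∀ U V, S.Linked D U V → r U = r V := fun U V h =>
    congrArg Quotient.out (Quotient.sound (s := st) h)
  have hker : ∀ U, (S.dproj D U).ker = (S.dproj D (r U)).ker := fun U => by
    ext x; exact ((hr U) x).symm
  let σ : ∀ U : S.Fac, U.1 ≃* (r U).1 := fun U =>
    (QuotientGroup.quotientKerEquivOfSurjective _ (hfull U)).symm.trans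
      ((QuotientGroup.quotientMulEquivOfEq (hker U)).trans
        (QuotientGroup.quotientKerEquivOfSurjective _ (hfull (r U))))
  have hσ : ∀ U (x : D), σ U (S.dproj D U x) = S.dproj D (r U) x := by
    intro U x
    have : (QuotientGroup.quotientKerEquivOfSurjective _ (hfull U)).symm (S.dproj D U x) =
        QuotientGroup.mk x := by
      rw [MulEquiv.symm_apply_eq]; rfl
    show (QuotientGroup.quotientKerEquivOfSurjective _ (hfull (r U)))
      ((QuotientGroup.quotientMulEquivOfEq (hker U))
        ((QuotientGroup.quotientKerEquivOfSurjective _ (hfull U)).symm (S.dproj D U x))) = _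
    rw [this]
    rfl
  let θ : ∀ U : S.Fac, U.1 ≃* Shrink.{0} S.T := fun U => (σ U).trans (S.facIso (r U))
  have hθ : ∀ (x : D) U V, r U = r V → θ U (S.proj U x) = θ V (S.proj V x) := by
    intro x U V h
    show S.facIso (r U) (σ U (S.dproj D U x)) = S.facIso (r V) (σ V (S.dproj D V x))
    rw [hσ, hσ]
    exact congrArg (fun W => S.facIso W (S.dproj D W x)) h
  have hidem : ∀ U, r (r U) = r U := fun U => hr' _ _ (hr U)
  let c : Fin (Nat.card S.Fac) → Fin (Nat.card S.Fac) := fun i => idx (r (idx.symm i))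
  have hc : ∀ i j, c i = c j ↔ r (idx.symm i) = r (idx.symm j) := fun i j => idx.apply_eq_iff_eq
  let cls : S.Fac → ℕ := fun U => Nat.card {V : S.Fac // S.Linked D U V}
  have hcls : ∀ U, cls U = cls U₀ := by
    intro U
    obtain ⟨g, hg, rfl⟩ := htr U₀ U
    have key : ∀ g ∈ A, ∀ U V, S.Linked D U V → S.Linked D (S.moveFac g U) (S.moveFac g V) := by
      intro g hg U V h x
      let y : D := ⟨S.moveElt g⁻¹ x, hDmove g⁻¹ (A.inv_mem hg) x⟩
      have hy : ∀ W : S.Fac, S.dproj D (S.moveFac g W) x = 1 ↔ S.dproj D W y = 1 := by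
        intro W
        have e : ((S.proj (S.moveFac g W) (x : S.N)) : G) = g * (S.proj W (y : S.N) : G) * g⁻¹ := by
          rw [← proj_move]
          congr 2
          exact Subtype.ext (by simp [y, moveElt, mul_assoc])
        constructor <;> intro hh
        · refine Subtype.ext ?_
          have : ((S.proj (S.moveFac g W) (x : S.N)) : G) = 1 := congrArg Subtype.val hh
          rw [e, conj_eq_one_iff] at this
          exact this
        · refine Subtype.ext ?_
          show ((S.proj (S.moveFac g W) (x : S.N)) : G) = 1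
          rw [e, show ((S.proj W (y : S.N)) : G) = 1 from congrArg Subtype.val hh]
          group
      rw [hy U, hy V]; exact h y
    exact Nat.card_congr
      { toFun := fun V => ⟨S.moveFac g⁻¹ V.1, by
          have := key g⁻¹ (A.inv_mem hg) _ _ V.2
          rwa [moveFac_inv] at this⟩
        invFun := fun V => ⟨S.moveFac g V.1, key g hg _ _ V.2⟩
        left_inv := fun V => Subtype.ext (S.moveFac_inv' g V.1)
        right_inv := fun V => Subtype.ext (S.moveFac_inv g V.1) }
  refine ⟨_, inferInstance, _, S.decompEquiv idx θ, hsimp, hna, hm, Or.inr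
    ⟨cls U₀, c, ?_, fun j => ?_, fun n => ⟨fun hn i j h => hθ ⟨n, hn⟩ _ _ ((hc i j).1 h),
      fun h => ?_⟩⟩⟩
  · -- some class is not a singleton
    by_contra hk
    apply hNA
    intro x hx
    have hsingle : ∀ U V, S.Linked D U V → U = V := by
      intro U V h
      have h1 : Nat.card {W : S.Fac // S.Linked D U W} ≤ 1 := by
        show cls U ≤ 1
        rw [hcls]; omega
      have : Subsingleton {W : S.Fac // S.Linked D U W} := Finite.card_le_one_iff_subsingleton.1 h1
      exact congrArg Subtype.val (Subsingleton.elim (⟨U, fun _ => Iff.rfl⟩ : {W // S.Linked D U W}) ⟨V, h⟩)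
    obtain ⟨d, hd⟩ := S.dproj_pi_surjective D hfull Finset.univ (fun U _ V _ => hsingle U V)
      fun U => S.proj U ⟨x, hx⟩
    have : (⟨x, hx⟩ : S.N) * (d : S.N)⁻¹ = 1 := S.proj_injective fun U => by
      rw [map_mul, map_inv, show S.proj U (d : S.N) = _ from hd U (Finset.mem_univ U), mul_inv_cancel]
    rw [mul_inv_eq_one] at this
    rw [show x = ((d : S.N) : G) from congrArg Subtype.val this]
    exact d.2
  · by_cases hj : ∃ i, c i = j
    · obtain ⟨i, rfl⟩ := hj
      left
      rw [← hcls (idx.symm i)]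
      exact Nat.card_congr
        { toFun := fun l => ⟨idx.symm l.1, fun x => by
            have h := (hc _ _).1 l.2
            rw [← hr (idx.symm i) x, ← hr (idx.symm l.1) x, h]⟩
          invFun := fun V => ⟨idx V.1, (hc _ _).2 (by
            rw [idx.symm_apply_apply]; exact (hr' _ _ V.2).symm)⟩
          left_inv := fun l => Subtype.ext (idx.apply_symm_apply _)
          right_inv := fun V => Subtype.ext (idx.symm_apply_apply _) }
    · right
      have : IsEmpty {i // c i = j} := ⟨fun l => hj ⟨l.1, l.2⟩⟩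
      exact Nat.card_of_isEmpty
  · obtain ⟨d, hd⟩ := S.dproj_pi_surjective D hfull (Finset.univ.image r) (fun U hU V hV hl => by
      obtain ⟨U', -, rfl⟩ := Finset.mem_image.1 hU
      obtain ⟨V', -, rfl⟩ := Finset.mem_image.1 hV
      have := hr' _ _ hl
      rwa [hidem, hidem] at this) fun U => S.proj U n
    have : n * (d : S.N)⁻¹ = 1 := S.proj_injective fun U => by
      rw [map_mul, map_inv, mul_inv_eq_one]
      apply (θ U).injective
      rw [hθ d U (r U) (hidem U).symm]
      have h1 : θ (idx.symm (idx U)) (S.proj (idx.symm (idx U)) n) =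
          θ (idx.symm (idx (r U))) (S.proj (idx.symm (idx (r U))) n) :=
        h (idx U) (idx (r U)) ((hc _ _).2 (by simp [hidem]))
      rw [idx.symm_apply_apply, idx.symm_apply_apply] at h1
      rw [h1]
      exact congrArg (θ (r U)) (hd (r U) (Finset.mem_image_of_mem r (Finset.mem_univ U))).symm
    rw [mul_inv_eq_one] at this
    exact (congrArg Subtype.val this) ▸ d.2

end NAMin

end Cfsg.Agent.MinFactors
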