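import Cfsg.Agent.Lib.MinNormal.Factors

/-!
# Subgroups of a nonabelian minimal normal subgroup with full projections
-/

set_option autoImplicit false

namespace Cfsg.Agent.MinFactors

namespace NAMin

variable {G : Type*} [Group G] (S : NAMin G) (D : Subgroup S.N)

/-- The projection restricted to `D`. -/
noncomputable def dproj (U : S.Fac) : D →* U.1 := (S.proj U).comp D.subtype

/-- Two factors linked by `D`: the same kernel. -/
def Linked (U V : S.Fac) : Prop := ∀ x : D, S.dproj D U x = 1 ↔ S.dproj D V x = 1

theorem linked_equiv : Equivalence (S.Linked D) :=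
  ⟨fun _ _ => Iff.rfl, fun h x => (h x).symm, fun h h' x => (h x).trans (h' x)⟩

variable [Finite G]

/-- Pairwise unlinked factors are covered independently. -/
theorem dproj_pi_surjective (hfull : ∀ U, Function.Surjective (S.dproj D U)) (s : Finset S.Fac)
    (hs : ∀ U ∈ s, ∀ V ∈ s, S.Linked D U V → U = V) (z : ∀ U : S.Fac, U.1) :
    ∃ x : D, ∀ U ∈ s, S.dproj D U x = z U := by
  classical
  induction s using Finset.induction_on generalizing z with
  | empty => exact ⟨1, by simp⟩
  | insert U s hUs ih =>
    have ih := ih (fun V hV W hW => hs V (Finset.mem_insert_of_mem hV) W (Finset.mem_insert_of_mem hW))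
    -- elements trivial on `s`
    let Ds : Subgroup D := ⨅ V ∈ s, (S.dproj D V).ker
    have hmem : ∀ x : D, x ∈ Ds ↔ ∀ V ∈ s, S.dproj D V x = 1 := by
      simp [Ds, Subgroup.mem_iInf, MonoidHom.mem_ker]
    have hsimp := S.fac_simple U
    have hDsn : Ds.Normal := Subgroup.normal_iInf_normal fun V =>
      Subgroup.normal_iInf_normal fun _ => (S.dproj D V).normal_ker
    rcases (hDsn.map (S.dproj D U) (hfull U)).eq_bot_or_eq_top with hbot | htop
    · -- the factor is linked to one in `s`
      exfalso
      have hzero : ∀ x : D, (∀ V ∈ s, S.dproj D V x = 1) → S.dproj D U x = 1 := fun x hx => by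
        have h : S.dproj D U x ∈ Ds.map (S.dproj D U) := ⟨x, (hmem x).2 hx, rfl⟩
        rwa [hbot, Subgroup.mem_bot] at h
      let E : S.Fac → Subgroup D := fun V => ⨅ W ∈ s.erase V, (S.dproj D W).ker
      have hE : ∀ V x, x ∈ E V ↔ ∀ W ∈ s.erase V, S.dproj D W x = 1 := by
        intro V x; simp [E, Subgroup.mem_iInf, MonoidHom.mem_ker]
      have hEn : ∀ V, (E V).Normal := fun V => Subgroup.normal_iInf_normal fun W =>
        Subgroup.normal_iInf_normal fun _ => (S.dproj D W).normal_ker
      -- some `V` has nontrivial image
      obtain ⟨V, hV, hVtop⟩ : ∃ V ∈ s, (E V).map (S.dproj D U) = ⊤ := by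
        by_contra hcon
        push Not at hcon
        have hz : ∀ V ∈ s, ∀ x ∈ E V, S.dproj D U x = 1 := fun V hV x hx => by
          have h := ((hEn V).map (S.dproj D U) (hfull U)).eq_bot_or_eq_top.resolve_right (hcon V hV)
          have : S.dproj D U x ∈ (E V).map (S.dproj D U) := ⟨x, hx, rfl⟩
          rwa [h, Subgroup.mem_bot] at this
        have hall : ∀ t : Finset S.Fac, t ⊆ s → ∀ x : D, (∀ V ∈ s \ t, S.dproj D V x = 1) →
            S.dproj D U x = 1 := by
          intro t
          induction t using Finset.induction_on with
          | empty => intro _ x hx; exact hzero x fun V hV => hx V (by simp [hV])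
          | insert V t hVt iht =>
            intro hts x hx
            have hVs := hts (Finset.mem_insert_self V t)
            obtain ⟨e, he⟩ := ih fun W => if h : W = V then (h ▸ S.dproj D V x : W.1) else 1
            have heE : e ∈ E V := (hE V e).2 fun W hW => by
              rw [he W (Finset.mem_of_mem_erase hW), dif_neg (Finset.ne_of_mem_erase hW)]
            have h1 := iht (fun W hW => hts (Finset.mem_insert_of_mem hW)) (x * e⁻¹) fun W hW => by
              rw [Finset.mem_sdiff] at hW
              rw [map_mul, map_inv]
              by_cases hWV : W = V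
              · subst hWV
                rw [he W hW.1, dif_pos rfl, mul_inv_cancel]
              · rw [hx W (by simp [hW.1, hW.2, hWV]), he W hW.1, dif_neg hWV]; simp
            rw [map_mul, map_inv, hz V hVs e heE, inv_one, mul_one] at h1
            exact h1
        obtain ⟨u, hu, v, hv, hne⟩ := S.fac_nonabelian U
        obtain ⟨x, hx⟩ := hfull U ⟨u, hu⟩
        have := (hall s subset_rfl x (by simp)).symm.trans hx
        apply hne
        have hu1 : u = 1 := (congrArg Subtype.val this).symm
        simp [hu1]
      have hVU : V ≠ U := fun e => hUs (e ▸ hV)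
      apply hVU
      refine hs V (Finset.mem_insert_of_mem hV) U (Finset.mem_insert_self U s) fun x => ⟨fun hx => ?_, fun hx => ?_⟩
      · -- trivial at `V` gives trivial at `U`
        apply Subtype.ext
        refine S.fac_center U (S.dproj D U x).2 fun w hw => ?_
        have hwmem : (⟨w, hw⟩ : U.1) ∈ (E V).map (S.dproj D U) := hVtop ▸ Subgroup.mem_top _
        obtain ⟨e, he, hew⟩ := hwmem
        have h1 : S.dproj D U (x * e * x⁻¹ * e⁻¹) = 1 := hzero _ fun W hW => by
          by_cases hWV : W = V
          · subst hWV; simp [hx]
          · simp [(hE V e).1 he W (Finset.mem_erase.2 ⟨hWV, hW⟩)]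
        simp only [map_mul, map_inv, hew, mul_inv_eq_iff_eq_mul] at h1
        simpa using congrArg Subtype.val h1
      · -- trivial at `U` gives trivial at `V`
        apply Subtype.ext
        refine S.fac_center V (S.dproj D V x).2 fun w hw => ?_
        obtain ⟨e, he⟩ := ih fun W => if h : W = V then (h ▸ (⟨w, hw⟩ : V.1) : W.1) else 1
        have heV : S.dproj D V e = ⟨w, hw⟩ := by rw [he V hV, dif_pos rfl]
        have heE : e ∈ E V := (hE V e).2 fun W hW => by
          rw [he W (Finset.mem_of_mem_erase hW), dif_neg (Finset.ne_of_mem_erase hW)]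
        have hcE : x * e * x⁻¹ * e⁻¹ ∈ E V :=
          (E V).mul_mem ((hEn V).conj_mem e heE x) ((E V).inv_mem heE)
        -- elements of `E V` are detected at `V`
        have hdet : ∀ y ∈ E V, S.dproj D U y = 1 → S.dproj D V y = 1 := by
          intro y hy hyU
          apply Subtype.ext
          refine S.fac_center V (S.dproj D V y).2 fun w' hw' => ?_
          let M : Subgroup V.1 := (E V ⊓ (S.dproj D U).ker).map (S.dproj D V)
          have hMn : M.Normal := by
            have : (E V ⊓ (S.dproj D U).ker).Normal :=
              @Subgroup.normal_inf_normal _ _ _ _ (hEn V) (S.dproj D U).normal_ker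
            exact this.map _ (hfull V)
          have := S.fac_simple V
          rcases hMn.eq_bot_or_eq_top with hM | hM
          · have : S.dproj D V y ∈ M := ⟨y, ⟨hy, hyU⟩, rfl⟩
            rw [hM, Subgroup.mem_bot] at this
            simp [this]
          · exfalso
            obtain ⟨p, hp, q, hq, hne⟩ := S.fac_nonabelian U
            have hpmem : (⟨p, hp⟩ : U.1) ∈ (E V).map (S.dproj D U) := hVtop ▸ Subgroup.mem_top _
            obtain ⟨ep, hep, hepp⟩ := hpmem
            have : S.dproj D V ep ∈ M := hM ▸ Subgroup.mem_top _
            obtain ⟨ek, hek, hekp⟩ := this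
            have h1 : S.dproj D U (ep * ek⁻¹) = 1 := hzero _ fun W hW => by
              by_cases hWV : W = V
              · subst hWV; simp [hekp]
              · simp [(hE V ep).1 hep W (Finset.mem_erase.2 ⟨hWV, hW⟩),
                  (hE V ek).1 hek.1 W (Finset.mem_erase.2 ⟨hWV, hW⟩)]
            rw [map_mul, map_inv, MonoidHom.mem_ker.1 hek.2, inv_one, mul_one, hepp] at h1
            have hp1 : p = 1 := congrArg Subtype.val h1
            exact hne (by simp [hp1])
        have h1 := hdet _ hcE (by simp [hx])
        simp only [map_mul, map_inv, heV, mul_inv_eq_iff_eq_mul] at h1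
        simpa using congrArg Subtype.val h1
    · -- room to adjust the new coordinate
      obtain ⟨x, hx⟩ := ih z
      have hmemU : z U * (S.dproj D U x)⁻¹ ∈ Ds.map (S.dproj D U) := htop ▸ Subgroup.mem_top _
      obtain ⟨d, hd, hdU⟩ := hmemU
      refine ⟨d * x, fun V hV => ?_⟩
      rw [map_mul]
      rcases Finset.mem_insert.1 hV with rfl | hVs
      · rw [hdU, inv_mul_cancel_right]
      · rw [(hmem d).1 hd V hVs, one_mul, hx V hVs]

end NAMin

end Cfsg.Agent.MinFactors
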